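/-
`Q8 wr 2` modulo the diagonal centre as a group of even permutations of eight points.
-/
import Mathlib

set_option autoImplicit false

namespace CfsgLib.LocalEven.SylowPairs

open QuaternionGroup Equiv

/-- The quaternion group of order 8. -/
abbrev Q8 := QuaternionGroup 2

/-- An automorphism of order two exchanging two axes. -/
def qSwapFun : Q8 → Q8
  | a i => xa 0 ^ i.val
  | xa i => a 1 * xa 0 ^ i.val

theorem qSwapFun_mul : ∀ x y : Q8, qSwapFun (x * y) = qSwapFun x * qSwapFun y := by decide

theorem qSwapFun_sq : ∀ x : Q8, qSwapFun (qSwapFun x) = x := by decide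

/-- The automorphism as an equivalence. -/
def qSwap : Q8 ≃* Q8 :=
  { toFun := qSwapFun, invFun := qSwapFun, left_inv := qSwapFun_sq, right_inv := qSwapFun_sq,
    map_mul' := qSwapFun_mul }

/-- `(a, b)` as a permutation of `Q8`. -/
def biAct : Q8 × Q8 →* Perm Q8 :=
  MonoidHom.mk' (fun p =>
    { toFun := fun x => p.1 * x * (qSwapFun p.2)⁻¹
      invFun := fun x => p.1⁻¹ * x * qSwapFun p.2
      left_inv := fun x => by simp [mul_assoc]
      right_inv := fun x => by simp [mul_assoc] })
    (fun p q => Equiv.ext fun x => by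
      show p.1 * q.1 * x * (qSwapFun (p.2 * q.2))⁻¹ = p.1 * (q.1 * x * (qSwapFun q.2)⁻¹) * (qSwapFun p.2)⁻¹
      rw [qSwapFun_mul, mul_inv_rev]
      simp [mul_assoc])

/-- The permutation exchanging the two factors. -/
def tau : Perm Q8 where
  toFun x := (qSwapFun x)⁻¹
  invFun x := (qSwapFun x)⁻¹
  left_inv := by unfold Function.LeftInverse; decide
  right_inv := by unfold Function.RightInverse Function.LeftInverse; decide

theorem tau_conj : ∀ p : Q8 × Q8, ∀ x : Q8, tau (biAct p x) = biAct (p.2, p.1) (tau x) := by decide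

theorem tau_tau : tau * tau = 1 := by decide

theorem sign_biAct : ∀ p : Q8 × Q8, Perm.sign (biAct p) = 1 := by decide +kernel

theorem sign_tau : Perm.sign tau = 1 := by decide +kernel

theorem biAct_eq_one : ∀ p : Q8 × Q8, (∀ x, biAct p x = x) → p = 1 ∨ p = (a 2, a 2) := by decide +kernel

theorem biAct_ne_tau : ∀ p : Q8 × Q8, ∃ x, biAct p (tau x) ≠ x := by decide +kernel

theorem biAct_center : biAct (a 2, a 2) = 1 := by decide +kernel

end CfsgLib.LocalEven.SylowPairs
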