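/-
`Q8 wr 2` and its two images.
-/
import Cfsg.Agent.Lib.LocalEven.SylowPairs.Quat
import Cfsg.Agent.Lib.Fusion.PSp4.Sylow

set_option autoImplicit false

namespace CfsgLib.LocalEven.SylowPairs

open QuaternionGroup Equiv

theorem mzTwo_cases (z : Multiplicative (ZMod 2)) : z = 1 ∨ z = Multiplicative.ofAdd 1 := by
  revert z; decide

/-- The exchange action. -/
def swapAct : Multiplicative (ZMod 2) →* MulAut (Q8 × Q8) :=
  MonoidHom.mk' (fun z => if z = 1 then 1 else MulEquiv.prodComm) (fun a b => by
    rcases mzTwo_cases a with rfl | rfl <;> rcases mzTwo_cases b with rfl | rfl <;> ext ⟨x, y⟩ <;>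
      simp [MulEquiv.prodComm, show (Multiplicative.ofAdd (1 : ZMod 2)) * Multiplicative.ofAdd 1 = 1 by decide])

theorem swapAct_one' (p : Q8 × Q8) : swapAct (Multiplicative.ofAdd 1) p = (p.2, p.1) := rfl

/-- The wreath product. -/
abbrev QWr := (Q8 × Q8) ⋊[swapAct] Multiplicative (ZMod 2)

/-- A homomorphism out of the cyclic group of order two. -/
def ofInvolution {H : Type*} [Group H] (t : H) (ht : t * t = 1) : Multiplicative (ZMod 2) →* H :=
  MonoidHom.mk' (fun z => if z = 1 then 1 else t) (fun a b => by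
    rcases mzTwo_cases a with rfl | rfl <;> rcases mzTwo_cases b with rfl | rfl <;>
      simp [ht, show (Multiplicative.ofAdd (1 : ZMod 2)) * Multiplicative.ofAdd 1 = 1 by decide])

theorem ofInvolution_gen {H : Type*} [Group H] (t : H) (ht : t * t = 1) :
    ofInvolution t ht (Multiplicative.ofAdd 1) = t := rfl

/-- The homomorphism out of the wreath product given by a pair map and an involution. -/
def wrHom {H : Type*} [Group H] (f : Q8 × Q8 →* H) (t : H) (ht : t * t = 1)
    (hc : ∀ p, t * f p = f (p.2, p.1) * t) : QWr →* H :=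
  SemidirectProduct.lift f (ofInvolution t ht) (fun z => MonoidHom.ext fun p => by
    rcases mzTwo_cases z with rfl | rfl
    · simp
    · show f (swapAct (Multiplicative.ofAdd 1) p) = MulAut.conj (ofInvolution t ht (Multiplicative.ofAdd 1)) (f p)
      rw [swapAct_one', ofInvolution_gen, MulAut.conj_apply, hc, mul_assoc, mul_inv_cancel, mul_one])

theorem wrHom_apply {H : Type*} [Group H] (f : Q8 × Q8 →* H) (t : H) (ht : t * t = 1)
    (hc : ∀ p, t * f p = f (p.2, p.1) * t) (w : QWr) :
    wrHom f t ht hc w = f w.left * ofInvolution t ht w.right := rfl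

/-- On permutations. -/
def permHom : QWr →* alternatingGroup Q8 :=
  (wrHom biAct tau tau_tau (fun p => Equiv.ext fun x => by
    rw [Perm.mul_apply, Perm.mul_apply]; exact tau_conj p x)).codRestrict _ (fun w => by
    rw [Perm.mem_alternatingGroup, wrHom_apply, map_mul, sign_biAct, one_mul]
    rcases mzTwo_cases w.right with e | e <;> rw [e]
    · simp
    · rw [ofInvolution_gen, sign_tau])

/-- The central element in the kernels. -/
def wz : QWr := SemidirectProduct.inl (a 2, a 2)

theorem permHom_ker (w : QWr) : permHom w = 1 ↔ w = 1 ∨ w = wz := by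
  constructor
  · intro h
    have h' : biAct w.left * ofInvolution tau tau_tau w.right = 1 := congrArg Subtype.val h
    rcases mzTwo_cases w.right with e | e <;> rw [e] at h'
    · rw [map_one, mul_one] at h'
      rcases biAct_eq_one _ (fun x => by rw [h']; rfl) with e' | e'
      · exact Or.inl (SemidirectProduct.ext e' e)
      · exact Or.inr (SemidirectProduct.ext e' e)
    · rw [ofInvolution_gen] at h'
      obtain ⟨x, hx⟩ := biAct_ne_tau w.left
      exact absurd (Equiv.congr_fun h' x) hx
  · rintro (rfl | rfl)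
    · exact map_one _
    · refine Subtype.ext ?_
      show biAct (a 2, a 2) * ofInvolution tau tau_tau 1 = 1
      rw [map_one, mul_one, biAct_center]

variable {F : Type} [Field F]

open CfsgLib.Fusion.PSp4 CfsgLib.Classical CfsgLib.Classical.SL2Q CfsgLib.Fusion.PSL2

/-- `Q8` inside `SL_2(F)`. -/
def quatHom {j : Matrix.SpecialLinearGroup (Fin 2) F} (hj : IsFlip j) :
    Q8 →* Matrix.SpecialLinearGroup (Fin 2) F :=
  MonoidHom.mk' (fun q => match q with
    | a i => wM ^ i.val
    | xa i => j * wM ^ i.val) (by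
    have hw : (wM : Matrix.SpecialLinearGroup (Fin 2) F) * wM = negOne := sq_of_trace_zero wM_trace
    have h4 : (wM : Matrix.SpecialLinearGroup (Fin 2) F) ^ 4 = 1 := by
      rw [show 4 = 2 * 2 from rfl, pow_mul, pow_two, pow_two, hw, negOne_sq]
    have hmod : ∀ m n : ℕ, m % 4 = n % 4 → (wM : Matrix.SpecialLinearGroup (Fin 2) F) ^ m = wM ^ n := fun m n h => by
      rw [pow_eq_pow_mod m h4, h, ← pow_eq_pow_mod n h4]
    have hflip : ∀ m : ℕ, (wM : Matrix.SpecialLinearGroup (Fin 2) F) ^ m * j = j * wM ^ (3 * m) := by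
      intro m
      induction m with
      | zero => simp
      | succ k ih =>
        have h1 : (wM : Matrix.SpecialLinearGroup (Fin 2) F) * j = j * wM ^ 3 := by
          have := isFlip_iff.1 hj
          rw [pow_succ, pow_two, hw, ← mul_assoc, ← negOne_comm, mul_assoc negOne, this, ← mul_assoc, ← mul_assoc,
            negOne_sq, one_mul]
        rw [pow_succ', mul_assoc, ih, ← mul_assoc, h1, mul_assoc, ← pow_add]
        congr 2
        ring
    rintro (i | i) (k | k)
    · rw [a_mul_a]; show wM ^ (i + k).val = wM ^ i.val * wM ^ k.val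
      rw [← pow_add]; exact hmod _ _ (by revert i k; decide)
    · rw [a_mul_xa]; show j * wM ^ (k - i).val = wM ^ i.val * (j * wM ^ k.val)
      rw [← mul_assoc, hflip, mul_assoc, ← pow_add]; congr 1; exact hmod _ _ (by revert i k; decide)
    · rw [xa_mul_a]; show j * wM ^ (i + k).val = j * wM ^ i.val * wM ^ k.val
      rw [mul_assoc, ← pow_add]; congr 1; exact hmod _ _ (by revert i k; decide)
    · rw [xa_mul_xa]; show wM ^ ((2 : ZMod (2 * 2)) + k - i).val = j * wM ^ i.val * (j * wM ^ k.val)
      rw [mul_assoc j, ← mul_assoc (wM ^ i.val), hflip, mul_assoc j, ← mul_assoc j j, hj.sq, ← pow_add, ← hw, ← pow_two (wM : Matrix.SpecialLinearGroup (Fin 2) F),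
        ← pow_add]
      exact hmod _ _ (by revert i k; decide))

theorem quatHom_injective (h2 : (2 : F) ≠ 0) {j : Matrix.SpecialLinearGroup (Fin 2) F} (hj : IsFlip j) :
    Function.Injective (quatHom hj) := by
  have ho : orderOf (wM : Matrix.SpecialLinearGroup (Fin 2) F) = 4 :=
    orderOf_of_sq_negOne h2 (sq_of_trace_zero wM_trace)
  rw [injective_iff_map_eq_one]
  rintro (i | i) h
  · have h' : (wM : Matrix.SpecialLinearGroup (Fin 2) F) ^ i.val = 1 := h
    have := orderOf_dvd_of_pow_eq_one h'
    rw [ho] at this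
    have hlt : i.val < 4 := ZMod.val_lt i
    have h0 : i.val = 0 := Nat.eq_zero_of_dvd_of_lt this hlt
    rw [(ZMod.val_eq_zero i).1 h0, a_zero]
  · exact absurd ((mul_eq_one_iff_eq_inv.1 (h : j * wM ^ i.val = 1)) ▸ inv_mem (pow_mem wM_mem_torus _))
      (hj.notMem_torus h2)

/-- Into `Sp_4(F)`. -/
def spHom {j : Matrix.SpecialLinearGroup (Fin 2) F} (hj : IsFlip j) : QWr →* Matrix.symplecticGroup (Fin 2) F :=
  wrHom (ddHom.comp ((quatHom hj).prodMap (quatHom hj))) sw sw_sq (fun p => sw_dd _ _)

theorem spHom_injective (h2 : (2 : F) ≠ 0) {j : Matrix.SpecialLinearGroup (Fin 2) F} (hj : IsFlip j) :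
    Function.Injective (spHom hj) := by
  rw [injective_iff_map_eq_one]
  intro w h
  have h' : dd (quatHom hj w.left.1) (quatHom hj w.left.2) * ofInvolution sw sw_sq w.right = 1 := h
  rcases mzTwo_cases w.right with e | e <;> rw [e] at h'
  · rw [map_one, mul_one, ← dd_one] at h'
    obtain ⟨e1, e2⟩ := dd_inj h'
    exact SemidirectProduct.ext (Prod.ext (quatHom_injective h2 hj (e1.trans (map_one _).symm))
      (quatHom_injective h2 hj (e2.trans (map_one _).symm))) e
  · rw [ofInvolution_gen, ← dd_one] at h'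
    exact absurd h'.symm (dd_ne_dd_sw _ _ _ _)

theorem spHom_wz {j : Matrix.SpecialLinearGroup (Fin 2) F} (hj : IsFlip j) : spHom hj wz = spNegOne := by
  show dd (wM ^ (2 : ZMod (2 * 2)).val) (wM ^ (2 : ZMod (2 * 2)).val) * ofInvolution sw sw_sq 1 = _
  rw [map_one, mul_one, show (2 : ZMod (2 * 2)).val = 2 from rfl, pow_two,
    show (wM : Matrix.SpecialLinearGroup (Fin 2) F) * wM = negOne from sq_of_trace_zero wM_trace, dd_negOne]

theorem card_qWr : Nat.card QWr = 128 := by
  rw [Nat.card_congr SemidirectProduct.equivProd, Nat.card_prod, Nat.card_prod, Nat.card_eq_fintype_card,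
    QuaternionGroup.card, Nat.card_congr Multiplicative.toAdd, Nat.card_zmod]

/-- A quotient of the wreath product of order 64 is a Sylow 2-subgroup. -/
theorem exists_range {G : Type*} [Group G] [Finite G] (g : QWr →* G) (hk : ∀ w, g w = 1 ↔ w = 1 ∨ w = wz)
    (hG : (Nat.card G).factorization 2 = 6) :
    ∀ P : Sylow 2 G, Nonempty (QWr ⧸ g.ker ≃* (P : Subgroup G)) := by
  have hk2 : Nat.card g.ker = 2 := by
    have hset : (g.ker : Set QWr) = {1, wz} := by
      ext w; simp [hk]
    rw [← SetLike.coe_sort_coe, hset, Nat.card_coe_set_eq]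
    exact Set.ncard_pair (fun h => absurd (congrArg (fun v : QWr => v.left.1) h) (by decide))
  have hc : Nat.card g.range = 2 ^ (Nat.card G).factorization 2 := by
    rw [hG, ← Nat.card_congr (QuotientGroup.quotientKerEquivRange g).toEquiv]
    have := Subgroup.card_eq_card_quotient_mul_card_subgroup g.ker
    rw [card_qWr, hk2] at this
    omega
  intro P
  obtain ⟨x, hx⟩ := MulAction.exists_smul_eq G (Sylow.ofCard g.range hc) P
  refine ⟨(QuotientGroup.quotientKerEquivRange g).trans ?_⟩
  rw [← hx]
  exact Sylow.equivSMul (Sylow.ofCard g.range hc) x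

theorem factorization_two {m : ℕ} (hm : m % 2 = 1) (e : ℕ) : (2 ^ e * m).factorization 2 = e := by
  rw [Nat.factorization_mul (by positivity) (by omega), Finsupp.add_apply, Nat.prime_two.factorization_pow,
    Finsupp.single_eq_same, Nat.factorization_eq_zero_of_not_dvd (by omega), add_zero]

/-- The Sylow 2-subgroups of `A_8` and `PSp_4(3)` are isomorphic. -/
theorem alt_eight_psp [Fintype F] (hF : Fintype.card F = 3) (P : Sylow 2 (alternatingGroup (Fin 8)))
    (Q : Sylow 2 (Cfsg.PSp 2 F)) :
    Nonempty (↥(P : Subgroup (alternatingGroup (Fin 8))) ≃* ↥(Q : Subgroup (Cfsg.PSp 2 F))) := by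
  have hodd : Fintype.card F % 2 = 1 := by omega
  have h2 : (2 : F) ≠ 0 := two_ne_zero_of_odd hodd
  obtain ⟨j, hj⟩ := exists_isFlip (F := F) h2
  have e8 : Q8 ≃ Fin 8 := Fintype.equivFinOfCardEq QuaternionGroup.card
  let g₁ : QWr →* alternatingGroup (Fin 8) :=
    (Equiv.altCongrHom e8).toMonoidHom.comp permHom
  let g₂ : QWr →* Cfsg.PSp 2 F := (QuotientGroup.mk' _).comp (spHom hj)
  have hk₁ : ∀ w, g₁ w = 1 ↔ w = 1 ∨ w = wz := fun w => by
    rw [← permHom_ker]
    exact (Equiv.altCongrHom e8).map_eq_one_iff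
  have hk₂ : ∀ w, g₂ w = 1 ↔ w = 1 ∨ w = wz := fun w => by
    show QuotientGroup.mk' _ (spHom hj w) = 1 ↔ _
    rw [QuotientGroup.mk'_apply, QuotientGroup.eq_one_iff, mem_center_sp_iff, ← spHom_wz hj,
      ← map_one (spHom hj), (spHom_injective h2 hj).eq_iff, (spHom_injective h2 hj).eq_iff]
  have hA : (Nat.card (alternatingGroup (Fin 8))).factorization 2 = 6 := by
    have h := two_mul_card_alternatingGroup (α := Fin 8)
    rw [← Nat.card_eq_fintype_card, Fintype.card_perm, Fintype.card_fin,
      show Nat.factorial 8 = 40320 from rfl] at h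
    rw [show Nat.card (alternatingGroup (Fin 8)) = 2 ^ 6 * 315 by omega, factorization_two (by norm_num)]
  have hS : (Nat.card (Cfsg.PSp 2 F)).factorization 2 = 6 := by
    have h := Subgroup.card_eq_card_quotient_mul_card_subgroup
      (Subgroup.center (Matrix.symplecticGroup (Fin 2) F))
    rw [card_sp_four, card_SL_two (q := Fintype.card F) rfl, hF] at h
    have hz : Nat.card (Subgroup.center (Matrix.symplecticGroup (Fin 2) F)) = 2 := by
      have hset : (Subgroup.center (Matrix.symplecticGroup (Fin 2) F) : Set (Matrix.symplecticGroup (Fin 2) F)) =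
          {1, spNegOne} := by
        ext g; simp [mem_center_sp_iff]
      rw [← SetLike.coe_sort_coe, hset, Nat.card_coe_set_eq]
      refine Set.ncard_pair fun h1 => ?_
      rw [← dd_one, ← dd_negOne] at h1
      exact negOne_ne_one h2 (dd_inj h1).1.symm
    rw [hz] at h
    norm_num at h
    have h' : 51840 = Nat.card (Cfsg.PSp 2 F) * 2 := h
    rw [show Nat.card (Cfsg.PSp 2 F) = 2 ^ 6 * 405 by omega, factorization_two (by norm_num)]
  obtain ⟨e₁⟩ := exists_range g₁ hk₁ hA P
  obtain ⟨e₂⟩ := exists_range g₂ hk₂ hS Q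
  exact ⟨e₁.symm.trans ((QuotientGroup.quotientMulEquivOfEq (Subgroup.ext fun w => by
    rw [MonoidHom.mem_ker, MonoidHom.mem_ker, hk₁, hk₂])).trans e₂)⟩

end CfsgLib.LocalEven.SylowPairs
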