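/-
The Sylow 2-subgroups of `S_8` and of `O_6^-(2)`.
-/
import Cfsg.Agent.Lib.LocalEven.SylowPairs.Wreath
import Cfsg.Agent.S0288
import Cfsg.Prelude.Def_Classical

set_option autoImplicit false

namespace CfsgLib.LocalEven.SylowPairs

open Equiv

/-- Four coordinates over the field with two elements. -/
abbrev U4 := Fin 4 → ZMod 2

/-- The minus-type form on four coordinates. -/
def q4 (u : U4) : ZMod 2 :=
  u 0 + u 1 + u 2 + u 3 + u 0 * u 1 + u 0 * u 2 + u 0 * u 3 + u 1 * u 2 + u 1 * u 3 + u 2 * u 3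

/-- Its polar form. -/
def b4 (u w : U4) : ZMod 2 := q4 (u + w) + q4 u + q4 w

theorem q4_perm : ∀ (σ : Perm (Fin 4)) (u : U4), q4 (u ∘ σ) = q4 u := by decide +kernel

theorem b4_perm (σ : Perm (Fin 4)) (u w : U4) : b4 (u ∘ σ) (w ∘ σ) = b4 u w := by
  rw [b4, b4, ← q4_perm σ (u + w), ← q4_perm σ u, ← q4_perm σ w]
  rfl

theorem b4_add : ∀ u u' w : U4, b4 (u + u') w = b4 u w + b4 u' w := by decide +kernel

/-- Six coordinates. -/
abbrev V6 := ZMod 2 × ZMod 2 × U4

/-- The form. -/
def q6 (v : V6) : ZMod 2 := v.1 * v.2.1 + q4 v.2.2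

/-- A signed permutation as a transformation. -/
def trans6 (w : U4) (σ : Perm (Fin 4)) (v : V6) : V6 :=
  (v.1 + b4 (v.2.2 ∘ σ.symm) w + v.2.1 * q4 w, v.2.1, v.2.2 ∘ σ.symm + v.2.1 • w)

theorem trans6_one : ∀ v : V6, trans6 0 1 v = v := by decide +kernel

theorem trans6_shift : ∀ (w w' : U4) (v : V6), trans6 w 1 (trans6 w' 1 v) = trans6 (w + w') 1 v := by
  decide +kernel

theorem q6_shift : ∀ (w : U4) (v : V6), q6 (trans6 w 1 v) = q6 v := by decide +kernel

/-- The coordinate permutation of six coordinates. -/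
def perm6 (σ : Perm (Fin 4)) (v : V6) : V6 := (v.1, v.2.1, v.2.2 ∘ σ.symm)

theorem trans6_eq (w : U4) (σ : Perm (Fin 4)) (v : V6) : trans6 w σ v = trans6 w 1 (perm6 σ v) := rfl

theorem perm6_shift (w : U4) (σ : Perm (Fin 4)) (v : V6) :
    perm6 σ (trans6 w 1 v) = trans6 (w ∘ σ.symm) 1 (perm6 σ v) := by
  refine Prod.ext ?_ (Prod.ext rfl rfl)
  show v.1 + b4 v.2.2 w + v.2.1 * q4 w = v.1 + b4 (v.2.2 ∘ σ.symm) (w ∘ σ.symm) + v.2.1 * q4 (w ∘ σ.symm)
  rw [b4_perm, q4_perm]

theorem trans6_comp (w w' : U4) (σ σ' : Perm (Fin 4)) (v : V6) :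
    trans6 w σ (trans6 w' σ' v) = trans6 (w + w' ∘ σ.symm) (σ * σ') v := by
  rw [trans6_eq w σ, trans6_eq w' σ', perm6_shift, trans6_shift, trans6_eq (w + w' ∘ σ.symm) (σ * σ')]
  rfl

theorem q6_trans (w : U4) (σ : Perm (Fin 4)) (v : V6) : q6 (trans6 w σ v) = q6 v := by
  rw [trans6_eq, q6_shift]
  show v.1 * v.2.1 + q4 (v.2.2 ∘ σ.symm) = _
  rw [q4_perm]; rfl

theorem trans6_add (w : U4) (σ : Perm (Fin 4)) (v v' : V6) :
    trans6 w σ (v + v') = trans6 w σ v + trans6 w σ v' := by
  refine Prod.ext ?_ (Prod.ext rfl ?_)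
  · show v.1 + v'.1 + b4 ((v.2.2 + v'.2.2) ∘ σ.symm) w + (v.2.1 + v'.2.1) * q4 w = _
    rw [show (v.2.2 + v'.2.2) ∘ σ.symm = v.2.2 ∘ σ.symm + v'.2.2 ∘ σ.symm from rfl, b4_add]
    show _ = v.1 + b4 (v.2.2 ∘ σ.symm) w + v.2.1 * q4 w + (v'.1 + b4 (v'.2.2 ∘ σ.symm) w + v'.2.1 * q4 w)
    ring
  · show (v.2.2 + v'.2.2) ∘ σ.symm + (v.2.1 + v'.2.1) • w = v.2.2 ∘ σ.symm + v.2.1 • w + (v'.2.2 ∘ σ.symm + v'.2.1 • w)
    rw [add_smul]
    ext i
    simp only [Pi.add_apply, Function.comp_apply]
    ring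

theorem trans6_injective {w : U4} {σ : Perm (Fin 4)} (h : ∀ v, trans6 w σ v = v) : w = 0 ∧ σ = 1 := by
  have h1 := congrArg (fun v : V6 => v.2.2) (h (0, 1, 0))
  have hw : w = 0 := by simpa [trans6] using h1
  refine ⟨hw, Equiv.ext fun i => ?_⟩
  have h2 := congrFun (congrArg (fun v : V6 => v.2.2) (h (0, 0, Pi.single i 1))) (σ i)
  simp [trans6, Pi.single_apply] at h2
  exact h2

/-- The coordinates of the minus-type space. -/
abbrev I6 := (Fin 2 ⊕ Fin 2) ⊕ Fin 2

/-- Change of coordinates. -/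
def coord6 : (I6 → ZMod 2) ≃ V6 where
  toFun v := (v (.inl (.inl 0)), v (.inl (.inr 0)),
    ![v (.inl (.inl 1)), v (.inl (.inl 1)) + v (.inl (.inr 1)) + v (.inr 0) + v (.inr 1),
      v (.inl (.inl 1)) + v (.inl (.inr 1)) + v (.inr 0), v (.inl (.inl 1)) + v (.inl (.inr 1)) + v (.inr 1)])
  invFun x := fun i => match i with
    | .inl (.inl j) => if j = 0 then x.1 else x.2.2 0
    | .inl (.inr j) => if j = 0 then x.2.1 else x.2.2 1 + x.2.2 2 + x.2.2 3 + x.2.2 0
    | .inr j => if j = 0 then x.2.2 1 + x.2.2 3 else x.2.2 1 + x.2.2 2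
  left_inv := by unfold Function.LeftInverse; decide +kernel
  right_inv := by unfold Function.RightInverse Function.LeftInverse; decide +kernel

theorem coord6_add : ∀ v v' : I6 → ZMod 2, coord6 (v + v') = coord6 v + coord6 v' := by decide +kernel

theorem coord6_form : ∀ v : I6 → ZMod 2, Cfsg.quadFormMinus 2 (ZMod 2) 1 1 v = q6 (coord6 v) := by
  unfold Cfsg.quadFormMinus q6
  decide +kernel

theorem coord6_symm_add (x y : V6) : coord6.symm (x + y) = coord6.symm x + coord6.symm y :=
  coord6.injective (by rw [Equiv.apply_symm_apply, coord6_add, Equiv.apply_symm_apply, Equiv.apply_symm_apply])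

/-- The permutation action on sign vectors. -/
def permAct : Perm (Fin 4) →* MulAut (Multiplicative U4) :=
  MonoidHom.mk' (fun σ =>
    { toFun := fun w => Multiplicative.ofAdd (Multiplicative.toAdd w ∘ σ.symm)
      invFun := fun w => Multiplicative.ofAdd (Multiplicative.toAdd w ∘ σ)
      left_inv := fun w => Multiplicative.toAdd.injective (funext fun i => by simp)
      right_inv := fun w => Multiplicative.toAdd.injective (funext fun i => by simp)
      map_mul' := fun _ _ => rfl })
    (fun _ _ => rfl)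

variable (D : Sylow 2 (Perm (Fin 4)))

/-- The signed permutations on a Sylow 2-subgroup. -/
abbrev SWr := Multiplicative U4 ⋊[permAct.comp (D : Subgroup (Perm (Fin 4))).subtype] (D : Subgroup (Perm (Fin 4)))

theorem card_sWr : Nat.card (SWr D) = 128 := by
  rw [Nat.card_congr SemidirectProduct.equivProd, Nat.card_prod, Nat.card_congr Multiplicative.toAdd, Nat.card_fun,
    Nat.card_zmod, Nat.card_fin, D.card_eq_multiplicity, Nat.card_perm, Nat.card_fin,
    show Nat.factorial 4 = 2 ^ 3 * 3 from rfl, factorization_two (by norm_num)]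
  norm_num

/-- On eight points. -/
def sWrPerm : SWr D →* Perm (Fin 4 × ZMod 2) :=
  MonoidHom.mk' (fun g =>
    { toFun := fun p => ((g.right : Perm (Fin 4)) p.1, p.2 + Multiplicative.toAdd g.left ((g.right : Perm (Fin 4)) p.1))
      invFun := fun p => ((g.right : Perm (Fin 4)).symm p.1, p.2 - Multiplicative.toAdd g.left p.1)
      left_inv := fun p => by simp
      right_inv := fun p => by simp })
    (fun g h => Equiv.ext fun p => Prod.ext rfl (by
      show p.2 + (Multiplicative.toAdd g.left _ +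
          Multiplicative.toAdd h.left ((g.right : Perm (Fin 4)).symm ((g.right : Perm (Fin 4)) _))) = _
      rw [Equiv.symm_apply_apply]
      show _ = p.2 + Multiplicative.toAdd h.left _ + Multiplicative.toAdd g.left _
      rw [add_assoc, add_comm (Multiplicative.toAdd g.left _)]
      rfl))

theorem sWrPerm_injective : Function.Injective (sWrPerm D) := by
  rw [injective_iff_map_eq_one]
  intro g h
  have hp : (g.right : Perm (Fin 4)) = 1 := Equiv.ext fun i => congrArg Prod.fst (Equiv.congr_fun h (i, 0))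
  refine SemidirectProduct.ext (Multiplicative.toAdd.injective (funext fun i => ?_)) (Subtype.ext hp)
  have := congrArg Prod.snd (Equiv.congr_fun h (i, 0))
  simpa [sWrPerm, hp] using this

/-- As linear maps. -/
def sWrLin (g : SWr D) : (I6 → ZMod 2) →ₗ[ZMod 2] (I6 → ZMod 2) :=
  AddMonoidHom.toZModLinearMap 2 (AddMonoidHom.mk'
    (fun v => coord6.symm (trans6 (Multiplicative.toAdd g.left) g.right (coord6 v)))
    (fun v v' => by rw [coord6_add, trans6_add, coord6_symm_add]))

theorem sWrLin_apply (g : SWr D) (v : I6 → ZMod 2) :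
    sWrLin D g v = coord6.symm (trans6 (Multiplicative.toAdd g.left) g.right (coord6 v)) := rfl

/-- As matrices. -/
noncomputable def sWrGL : SWr D →* Matrix.GeneralLinearGroup I6 (ZMod 2) :=
  MonoidHom.toHomUnits
    { toFun := fun g => LinearMap.toMatrix' (sWrLin D g)
      map_one' := by
        rw [← LinearMap.toMatrix'_id]
        congr 1
        refine LinearMap.ext fun v => ?_
        rw [sWrLin_apply]
        show coord6.symm (trans6 0 1 (coord6 v)) = v
        rw [trans6_one, Equiv.symm_apply_apply]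
      map_mul' := fun g h => by
        rw [← LinearMap.toMatrix'_comp]
        congr 1
        refine LinearMap.ext fun v => ?_
        rw [LinearMap.comp_apply, sWrLin_apply, sWrLin_apply, sWrLin_apply, Equiv.apply_symm_apply, trans6_comp]
        rfl }

theorem sWrGL_mulVec (g : SWr D) (v : I6 → ZMod 2) :
    (sWrGL D g : Matrix I6 I6 (ZMod 2)).mulVec v = sWrLin D g v := LinearMap.toMatrix'_mulVec _ _

theorem sWrGL_injective : Function.Injective (sWrGL D) := by
  rw [injective_iff_map_eq_one]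
  intro g h
  obtain ⟨h1, h2⟩ := trans6_injective (w := Multiplicative.toAdd g.left) (σ := (g.right : Perm (Fin 4))) fun x => by
    have := sWrGL_mulVec D g (coord6.symm x)
    rw [h, Units.val_one, Matrix.one_mulVec, sWrLin_apply, Equiv.apply_symm_apply] at this
    exact (coord6.symm.injective this).symm
  exact SemidirectProduct.ext h1 (Subtype.ext h2)

theorem exists_image {W G : Type*} [Group W] [Group G] [Finite G] (f : W →* G) (hf : Function.Injective f)
    (hc : Nat.card W = 2 ^ (Nat.card G).factorization 2) (P : Sylow 2 G) : Nonempty (W ≃* (P : Subgroup G)) := by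
  have h : Nat.card f.range = 2 ^ (Nat.card G).factorization 2 := by
    rw [← Nat.card_congr (MonoidHom.ofInjective hf).toEquiv, hc]
  obtain ⟨x, hx⟩ := MulAction.exists_smul_eq G (Sylow.ofCard f.range h) P
  refine ⟨(MonoidHom.ofInjective hf).trans ?_⟩
  rw [← hx]
  exact Sylow.equivSMul (Sylow.ofCard f.range h) x

/-- The Sylow 2-subgroups of `S_8` and `O_6^-(2)` are isomorphic. -/
theorem sym_eight_six_minus (K : Type) [Field K] [Fintype K] (hK : Fintype.card K = 2) (a b : K)
    (hab : ∀ z₁ z₂ : K, z₁ ^ 2 + a * z₁ * z₂ + b * z₂ ^ 2 = 0 → z₁ = 0 ∧ z₂ = 0)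
    (P : Sylow 2 (Perm (Fin 8))) (Q : Sylow 2 ↥(Cfsg.isometryGroup K (Cfsg.quadFormMinus 2 K a b))) :
    Nonempty (↥(P : Subgroup (Perm (Fin 8))) ≃*
      ↥(Q : Subgroup ↥(Cfsg.isometryGroup K (Cfsg.quadFormMinus 2 K a b)))) := by
  haveI : CharP K 2 := charP_of_card_eq_prime hK
  let c : ZMod 2 →+* K := ZMod.castHom dvd_rfl K
  have hci : Function.Injective c := c.injective
  have hcs : Function.Surjective c :=
    ((Fintype.bijective_iff_injective_and_card _).2 ⟨hci, by rw [ZMod.card, hK]⟩).2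
  have h01 : ∀ x : K, x = 0 ∨ x = 1 := fun x => by
    obtain ⟨y, rfl⟩ := hcs x
    rcases (show ∀ y : ZMod 2, y = 0 ∨ y = 1 by decide) y with rfl | rfl
    · exact Or.inl (map_zero c)
    · exact Or.inr (map_one c)
  have hb : b = 1 := (h01 b).resolve_left fun h => one_ne_zero (hab 0 1 (by simp [h])).2
  have ha : a = 1 := (h01 a).resolve_left fun h => one_ne_zero (hab 1 1 (by
    rw [h, hb]; simp [CharTwo.add_self_eq_zero])).1
  subst ha hb
  have hform : ∀ v : I6 → ZMod 2, Cfsg.quadFormMinus 2 K 1 1 (fun i => c (v i)) =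
      c (Cfsg.quadFormMinus 2 (ZMod 2) 1 1 v) := fun v => by
    simp only [Cfsg.quadFormMinus, map_add, map_mul, map_pow, map_sum, map_one]
  let χ : Matrix.GeneralLinearGroup I6 (ZMod 2) →* Matrix.GeneralLinearGroup I6 K :=
    Matrix.GeneralLinearGroup.map c
  have hmem : ∀ g : SWr default, χ (sWrGL default g) ∈ Cfsg.isometryGroup K (Cfsg.quadFormMinus 2 K 1 1) := by
    intro g u v
    obtain ⟨u₀, rfl⟩ : ∃ u₀ : I6 → ZMod 2, (fun i => c (u₀ i)) = u :=
      ⟨fun i => Function.surjInv hcs (u i), funext fun i => Function.surjInv_eq hcs _⟩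
    show Cfsg.quadFormMinus 2 K 1 1 ((((sWrGL default g : Matrix I6 I6 (ZMod 2))).map c).mulVec _) = _
    rw [show ((sWrGL default g : Matrix I6 I6 (ZMod 2)).map c).mulVec (fun i => c (u₀ i)) =
      fun i => c ((sWrGL default g : Matrix I6 I6 (ZMod 2)).mulVec u₀ i) from
      funext fun i => (RingHom.map_mulVec c _ _ i).symm]
    beta_reduce
    rw [hform, hform, coord6_form, coord6_form, sWrGL_mulVec, sWrLin_apply, Equiv.apply_symm_apply, q6_trans]
  let f := (χ.comp (sWrGL default)).codRestrict _ hmem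
  have hf : Function.Injective f := fun g h e => sWrGL_injective default (Units.ext (Matrix.ext fun i j =>
    hci (congrFun₂ (congrArg (fun z : Cfsg.isometryGroup K (Cfsg.quadFormMinus 2 K 1 1) =>
      ((z : Matrix.GeneralLinearGroup I6 K) : Matrix I6 I6 K)) e) i j)))
  have hO : Nat.card (Cfsg.isometryGroup K (Cfsg.quadFormMinus 2 K 1 1)) = 2 ^ 7 * 405 := by
    rw [Cfsg.Agent.S0288.result hK 3 (by norm_num) 1 1 hab, Finset.prod_range_succ, Finset.prod_range_one]
    norm_num
  haveI : Finite (Cfsg.isometryGroup K (Cfsg.quadFormMinus 2 K 1 1)) := inferInstance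
  obtain ⟨e₂⟩ := exists_image f hf (by rw [card_sWr, hO, factorization_two (by norm_num)]; norm_num) Q
  let g : SWr default →* Perm (Fin 8) :=
    (Fintype.equivFinOfCardEq (α := Fin 4 × ZMod 2) (by simp)).permCongrHom.toMonoidHom.comp (sWrPerm default)
  obtain ⟨e₁⟩ := exists_image g
    (((Fintype.equivFinOfCardEq (α := Fin 4 × ZMod 2) (by simp)).permCongrHom.injective).comp
      (sWrPerm_injective default)) (by
    rw [card_sWr, Nat.card_perm, Nat.card_fin, show Nat.factorial 8 = 2 ^ 7 * 315 from rfl,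
      factorization_two (by norm_num)]; norm_num) P
  exact ⟨e₁.symm.trans e₂⟩

end CfsgLib.LocalEven.SylowPairs
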